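import Cfsg.Agent.H95.McLInv.Letters
import Cfsg.Agent.H95.McLPoints
import Cfsg.Agent.H95.OutSwap
import Cfsg.Agent.H95.McLFusion
import Cfsg.Agent.H95.Co2Cent.Kernel

/-!
The centraliser of an involution of McLaughlin's group acts on eight letters with kernel of order two.
-/

set_option autoImplicit false
set_option maxRecDepth 20000

namespace H95.McLInv

open Cfsg Finset

theorem piN_ok : Co2Cent.permOK piN = true ∧ Co2Cent.srcOK piN = true ∧
    H90.img piN 23 = 23 ∧ H90.img piN 0 = 0 ∧
    H87.eqB (H90.compN piN piN) H90.idN = true ∧ H87.eqB piN H90.idN = false := by decide +kernel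

theorem fix_of_img {p : ℕ} (h : Co2Cent.permOK p = true) (h23 : H90.img p 23 = 23)
    (h0 : H90.img p 0 = 0) :
    (Co2Cent.permN p).1 none = none ∧ (Co2Cent.permN p).1 (some 0) = some 0 :=
  ⟨H90.idx_injective (Fin.ext (by rw [(Co2Cent.permN_repr h).apply]; exact h23)),
    H90.idx_injective (Fin.ext (by rw [(Co2Cent.permN_repr h).apply]; exact h0))⟩

/-- the permutation, in `M22` -/
noncomputable def pi22 : Spor.M22 :=
  ⟨(Co2Cent.permN piN).1, ⟨(Co2Cent.permN piN).2, (fix_of_img piN_ok.1 piN_ok.2.2.1 piN_ok.2.2.2.1).1⟩,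
    (fix_of_img piN_ok.1 piN_ok.2.2.1 piN_ok.2.2.2.1).2⟩

theorem pi22_repr : H90.Repr pi22.1 piN := Co2Cent.permN_repr piN_ok.1

theorem pi22_sq : pi22 * pi22 = 1 :=
  Subtype.ext ((H87.eqB_iff (pi22_repr.mul pi22_repr) H90.repr_one).1 piN_ok.2.2.2.2.1)

theorem pi22_ne : pi22 ≠ 1 := fun e => by
  have := (H87.eqB_iff pi22_repr H90.repr_one).2 (congrArg Subtype.val e)
  rw [piN_ok.2.2.2.2.2] at this
  exact Bool.noConfusion this

/-- the group to the model -/
noncomputable def mEquiv : Spor.McL ≃* pvU.group := infStabPair pvU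

/-- an element as an isometry -/
noncomputable def coEl : Spor.McL →* Co0 := pvU.group.subtype.comp mEquiv.toMonoidHom

theorem coEl_injective : Function.Injective coEl := fun _ _ h =>
  mEquiv.injective (Subtype.ext h)

theorem coEl_fix (g : Spor.McL) :
    coEl g • Spor.leechV = Spor.leechV ∧ coEl g • pvU.w = pvU.w := (mEquiv g).2

/-- `M22` in the group -/
noncomputable def emb22 : Spor.M22 →* Spor.McL :=
  mEquiv.symm.toMonoidHom.comp McLFusion.iota

theorem emb22_injective : Function.Injective emb22 :=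
  mEquiv.symm.injective.comp McLFusion.iota_injective

theorem coEl_emb22 (σ : Spor.M22) : coEl (emb22 σ) = permHom ⟨σ.1, σ.2.1.1⟩ := by
  show ((mEquiv (mEquiv.symm (McLFusion.iota σ))).1 : Co0) = _
  rw [MulEquiv.apply_symm_apply, McLFusion.iota_val]

/-- the involution -/
noncomputable def tInv : Spor.McL := emb22 pi22

theorem orderOf_tInv : orderOf tInv = 2 := by
  rw [tInv, orderOf_injective emb22 emb22_injective]
  exact orderOf_eq_prime (by rw [pow_two]; exact pi22_sq) pi22_ne

theorem coEl_tInv : coEl tInv = permHom (Co2Cent.permN piN) := coEl_emb22 _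

theorem tInv_list (y : leechLattice) :
    vecL ((coEl tInv • y : leechLattice) : GolayPt → ℤ) = Co2Cent.permLW piN (vecL (y : GolayPt → ℤ)) := by
  rw [coEl_tInv]; exact Co2Cent.vecL_permN piN_ok.1 piN_ok.2.1 y

/-- the centraliser -/
abbrev Cent : Subgroup Spor.McL := Subgroup.centralizer ({tInv} : Set Spor.McL)

theorem cent_comm (g : Cent) (y : leechLattice) :
    coEl g.1 • coEl tInv • y = coEl tInv • coEl g.1 • y := by
  rw [← mul_smul, ← mul_smul, ← map_mul, ← map_mul, Subgroup.mem_centralizer_singleton_iff.mp g.2]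

theorem uBase_fix (g : Spor.McL) : coEl g • uBase = uBase := by
  rw [uBase, co0_neg, (coEl_fix g).1]

theorem vBase_eq : vBase = pvU.w :=
  Subtype.ext (funext fun p => (show ∀ p : GolayPt, (vBase : GolayPt → ℤ) p = Spor.vecU p by
    decide +kernel) p)

theorem vBase_fix (g : Spor.McL) : coEl g • vBase = vBase := by
  rw [vBase_eq, (coEl_fix g).2]

theorem fixL_ok :
    (mclList.map vecL).all (fun l => (Co2Cent.permLW piN l != l) || fixL.contains l) = true ∧
      fixL.all (fun l => Co2Cent.permLW piN l == l && (mclList.map vecL).contains l) = true ∧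
      fixL.length = 35 ∧ fixL.Nodup := by decide +kernel

theorem exists_xF (i : Fin 35) : ∃ x ∈ mclSet uBase vBase,
    vecL (x : GolayPt → ℤ) = fixL.getD i.val [] ∧ coEl tInv • x = x := by
  have hi : i.val < fixL.length := by rw [fixL_ok.2.2.1]; exact i.isLt
  have h := List.all_eq_true.mp fixL_ok.2.1 _ (List.getElem_mem hi)
  simp only [Bool.and_eq_true, beq_iff_eq, List.contains_iff_mem] at h
  obtain ⟨y, hy, e⟩ := List.mem_map.mp h.2
  obtain ⟨x, hx, rfl⟩ := mclList_sub hy
  refine ⟨x, hx, ?_, eq_of_vecL ?_⟩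
  · rw [e, List.getD_eq_getElem _ _ hi]
  · rw [tInv_list, e]; exact h.1

/-- the fixed points -/
noncomputable def xF (i : Fin 35) : leechLattice := (exists_xF i).choose

theorem xF_mem (i : Fin 35) : xF i ∈ mclSet uBase vBase := (exists_xF i).choose_spec.1
theorem xF_list (i : Fin 35) : vecL (xF i : GolayPt → ℤ) = fixL.getD i.val [] :=
  (exists_xF i).choose_spec.2.1
theorem xF_fixed (i : Fin 35) : coEl tInv • xF i = xF i := (exists_xF i).choose_spec.2.2

theorem xF_injective : Function.Injective xF := by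
  intro i j h
  have e := xF_list i
  rw [h, xF_list j] at e
  have h35 := fixL_ok.2.2.1
  rw [List.getD_eq_getElem _ _ (by omega), List.getD_eq_getElem _ _ (by omega)] at e
  exact Fin.ext ((fixL_ok.2.2.2.getElem_inj_iff).mp e).symm

theorem exists_image (g : Cent) (i : Fin 35) : ∃ j, coEl g.1 • xF i = xF j := by
  obtain ⟨h1, h2, h3⟩ := xF_mem i
  have hx : coEl g.1 • xF i ∈ mclSet uBase vBase := by
    refine ⟨?_, ?_, ?_⟩
    · rw [co0_dot]; exact h1
    · conv_lhs => rw [← uBase_fix g.1, co0_dot]
      exact h2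
    · conv_lhs => rw [← vBase_fix g.1, co0_dot]
      exact h3
  have hl := List.all_eq_true.mp fixL_ok.1 _ (List.mem_map.mpr ⟨_, mclSet_mem_list hx, rfl⟩)
  rw [← tInv_list, ← cent_comm, xF_fixed] at hl
  simp only [bne_self_eq_false, Bool.false_or, List.contains_iff_mem] at hl
  obtain ⟨n, hn, e⟩ := List.getElem_of_mem hl
  refine ⟨⟨n, fixL_ok.2.2.1 ▸ hn⟩, eq_of_vecL ?_⟩
  rw [xF_list, List.getD_eq_getElem _ _ hn, e]

/-- the action on the fixed points -/
noncomputable def pfun (g : Cent) (i : Fin 35) : Fin 35 := (exists_image g i).choose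

theorem pfun_spec (g : Cent) (i : Fin 35) : coEl g.1 • xF i = xF (pfun g i) :=
  (exists_image g i).choose_spec

theorem pfun_mul (a b : Cent) (i : Fin 35) : pfun (a * b) i = pfun a (pfun b i) :=
  xF_injective (by
    rw [← pfun_spec, Subgroup.coe_mul, map_mul, mul_smul, pfun_spec, pfun_spec])

theorem pfun_one (i : Fin 35) : pfun 1 i = i :=
  xF_injective (by rw [← pfun_spec, OneMemClass.coe_one, map_one, one_smul])

/-- the permutation of the fixed points -/
noncomputable def rhoP : Cent →* Equiv.Perm (Fin 35) :=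
  MonoidHom.mk' (fun g => ⟨pfun g, pfun g⁻¹,
      fun i => by rw [← pfun_mul, inv_mul_cancel, pfun_one],
      fun i => by rw [← pfun_mul, mul_inv_cancel, pfun_one]⟩)
    fun a b => Equiv.ext (pfun_mul a b)

theorem rhoP_spec (g : Cent) (i : Fin 35) : coEl g.1 • xF i = xF (rhoP g i) := pfun_spec g i

theorem rhoP_dots (g : Cent) : DotPres (rhoP g) := fun i j => by
  show dotL _ _ = dotL _ _
  rw [← xF_list, ← xF_list, ← xF_list, ← xF_list, ← Co2Cent.ldot_dotL, ← Co2Cent.ldot_dotL,
    ← rhoP_spec, ← rhoP_spec, co0_dot]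

/-- the permutation of the letters -/
noncomputable def thetaP : Cent →* Equiv.Perm (Fin 8) :=
  MonoidHom.mk' (fun g => (exists_compat (rhoP_dots g)).choose) fun a b =>
    Compat.unique (exists_compat (rhoP_dots (a * b))).choose_spec (by
      rw [map_mul]
      exact (exists_compat (rhoP_dots a)).choose_spec.mul (exists_compat (rhoP_dots b)).choose_spec)

theorem thetaP_spec (g : Cent) : Compat (rhoP g) (thetaP g) :=
  (exists_compat (rhoP_dots g)).choose_spec

/-- computing the image from an action on lists -/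
theorem thetaP_eq (g : Cent) (f : List ℤ → List ℤ)
    (hf : ∀ y : leechLattice, vecL ((coEl g.1 • y : leechLattice) : GolayPt → ℤ)
      = f (vecL (y : GolayPt → ℤ)))
    (p : Equiv.Perm (Fin 35)) (s : Equiv.Perm (Fin 8))
    (h : ((List.finRange 35).all fun i => f (fixL.getD i.val []) == fixL.getD (p i).val []) = true)
    (hs : compatB p s = true) : thetaP g = s := by
  have hp : rhoP g = p := Equiv.ext fun i => xF_injective (eq_of_vecL (by
    rw [← rhoP_spec, hf, xF_list, xF_list]
    exact beq_iff_eq.mp (List.all_eq_true.mp h i (List.mem_finRange i))))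
  exact (thetaP_spec g).unique (hp ▸ compatB_spec hs)

/-- a permutation keeping all the listed vectors -/
def sigB (q : ℕ) : Bool :=
  fixL.all fun x => (List.range 24).all fun i => x.getD (H90.img q i) 0 == x.getD i 0

theorem stab_sig : Co2Cent.stabAt.all (fun q =>
    !(sigB q && H90.img q 23 == 23 && H90.img q 0 == 0) || H87.eqB q H90.idN || H87.eqB q piN)
    = true := by decide +kernel

theorem sig_singletons : ∀ p ∈ ([some 2, some 4, some 5, some 6, some 10] : List GolayPt),
    ∀ q : GolayPt, (fixL.all fun x =>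
      x.getD (H90.idx q).val 0 == x.getD (H90.idx p).val 0) = true → q = p := by decide +kernel

theorem combo_eight : ∀ n : Fin 24, 3 * (eightL 23).getD n.val 0 =
    (∑ i : Fin 35, coL.getD i.val 0 * (fixL.getD i.val []).getD n.val 0)
      + coL.getD 35 0 * (if n.val = 23 then 5 else 1) := by decide +kernel

theorem eight_none_fixed (g : Spor.McL) (h : ∀ i, coEl g • xF i = xF i) :
    coEl g • eight none = eight none := by
  let φ : leechLattice →+ leechLattice := AddMonoidHom.mk' (fun y => coEl g • y - y)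
    fun a b => by simp only [co0_add]; abel
  have e : (3 : ℕ) • eight none = (∑ i : Fin 35, coL.getD i.val 0 • xF i) + coL.getD 35 0 • uBase := by
    refine Subtype.ext (funext fun p => ?_)
    have hn := combo_eight (H90.idx p)
    have hx : ∀ i : Fin 35, (xF i : GolayPt → ℤ) p = (fixL.getD i.val []).getD (H90.idx p).val 0 :=
      fun i => by
        rw [← xF_list, vecL_getD _ (H90.idx p).isLt, show H90.pt ⟨(H90.idx p).val, _⟩ = p from H90.pt_idx p]
    have hu : (uBase : GolayPt → ℤ) p = if (H90.idx p).val = 23 then 5 else 1 := by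
      rcases p with _ | x
      · rw [uBase_none, show (H90.idx (none : GolayPt)).val = 23 by decide +kernel]; rfl
      · rw [uBase_some, if_neg (fun e => by
          have := congrArg H90.pt (show H90.idx (some x) = H90.idx none from
            Fin.ext (e.trans (show (H90.idx (none : GolayPt)).val = 23 by decide +kernel).symm))
          rw [H90.pt_idx, H90.pt_idx] at this
          exact absurd this (by simp))]
    have h8 : (eight none : GolayPt → ℤ) p = (eightL 23).getD (H90.idx p).val 0 := by
      rw [← vecL_eight, vecL_getD _ (H90.idx p).isLt,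
        show H90.pt ⟨(H90.idx p).val, _⟩ = p from H90.pt_idx p,
        show H90.pt 23 = none from by decide +kernel]
    simp only [AddSubgroup.coe_add, AddSubgroup.val_finset_sum, AddSubgroup.coe_zsmul,
      AddSubgroup.coe_nsmul, Pi.add_apply, Finset.sum_apply, Pi.smul_apply, smul_eq_mul,
      nsmul_eq_mul, Nat.cast_ofNat, hx, hu, h8]
    simpa using hn
  have h0 : (3 : ℕ) • φ (eight none) = 0 := by
    rw [← map_nsmul, e, map_add, map_sum]
    have hx : ∀ i, φ (xF i) = 0 := fun i => sub_eq_zero.mpr (h i)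
    have hu : φ uBase = 0 := sub_eq_zero.mpr (uBase_fix g)
    simp only [map_zsmul, hx, hu, smul_zero, sum_const_zero, add_zero]
  refine sub_eq_zero.mp (Subtype.ext (funext fun p => ?_) : φ (eight none) = 0)
  have := congrArg (fun w : leechLattice => (w : GolayPt → ℤ) p) h0
  simp only [AddSubgroup.coe_nsmul, Pi.smul_apply, AddSubgroup.coe_zero, Pi.zero_apply,
    nsmul_eq_mul, Nat.cast_ofNat] at this ⊢
  simp only [mul_eq_zero] at this
  exact this.resolve_left (by norm_num)

/-- the kernel on the letters -/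
theorem thetaP_kernel {g : Cent} (h : thetaP g = 1) : g.1 = 1 ∨ g.1 = tInv := by
  have hrho : rhoP g = 1 := (h ▸ thetaP_spec g).left_one
  have hx : ∀ i, coEl g.1 • xF i = xF i := fun i => by rw [rhoP_spec, hrho]; rfl
  obtain ⟨σ, hσn, hσ⟩ := mono_of_const (eight_none_fixed g.1 hx) leechV_some (by norm_num)
    (coEl_fix g.1).1
  have hσ0 : σ.1 (some 0) = some 0 := by
    have e := congrArg (fun w : leechLattice => (w : GolayPt → ℤ) (σ.1 (some 0))) (coEl_fix g.1).2
    simp only [hσ, permHom_apply, Equiv.symm_apply_apply, pvU.h1] at e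
    rcases hy : σ.1 (some 0) with _ | y
    · exact absurd (σ.1.injective (hy.trans hσn.symm)) (by simp)
    · by_cases hy0 : y = 0
      · rw [hy0]
      · rw [hy, pvU.h2 y hy0] at e
        exact absurd e (by decide)
  have hinv : ∀ (i : Fin 35) (p : GolayPt),
      (fixL.getD i.val []).getD (H90.idx (σ.1 p)).val 0 = (fixL.getD i.val []).getD (H90.idx p).val 0 := by
    intro i p
    have e := congrArg (fun w : leechLattice => (w : GolayPt → ℤ) (σ.1 p)) (hx i)
    simp only [hσ, permHom_apply, Equiv.symm_apply_apply] at e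
    rw [← xF_list, vecL_getD _ (H90.idx _).isLt, vecL_getD _ (H90.idx _).isLt,
      show H90.pt ⟨(H90.idx (σ.1 p)).val, _⟩ = σ.1 p from H90.pt_idx _,
      show H90.pt ⟨(H90.idx p).val, _⟩ = p from H90.pt_idx _]
    exact e.symm
  have hall : ∀ x ∈ fixL, ∃ i : Fin 35, fixL.getD i.val [] = x := fun x hx' => by
    obtain ⟨n, hn, e⟩ := List.getElem_of_mem hx'
    exact ⟨⟨n, fixL_ok.2.2.1 ▸ hn⟩, by rw [List.getD_eq_getElem _ _ hn, e]⟩
  obtain ⟨q, hq, hr⟩ := Co2Cent.mem_stabAt (σ := σ) fun p hp => sig_singletons p hp _ (by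
    simp only [List.all_eq_true, beq_iff_eq]
    intro x hx'
    obtain ⟨i, rfl⟩ := hall x hx'
    exact hinv i p)
  have hs := List.all_eq_true.mp stab_sig q hq
  have hcond : (sigB q && H90.img q 23 == 23 && H90.img q 0 == 0) = true := by
    simp only [sigB, Bool.and_eq_true, List.all_eq_true, beq_iff_eq, List.mem_range]
    have a1 := hr.apply none
    have a2 := hr.apply (some 0)
    rw [hσn] at a1
    rw [hσ0] at a2
    refine ⟨⟨fun x hx' n hn => ?_, a1.symm⟩, a2.symm⟩
    obtain ⟨i, rfl⟩ := hall x hx'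
    have e := hinv i (H90.pt ⟨n, hn⟩)
    rw [hr.apply, H90.idx_pt] at e
    exact e
  rw [hcond, Bool.not_true, Bool.false_or, Bool.or_eq_true] at hs
  rcases hs with h1 | h1
  · left
    refine coEl_injective ?_
    rw [map_one, hσ, show σ = 1 from Subtype.ext ((H87.eqB_iff hr H90.repr_one).1 h1), map_one]
  · right
    refine coEl_injective ?_
    rw [hσ, coEl_tInv,
      show σ = Co2Cent.permN piN from Subtype.ext ((H87.eqB_iff hr (Co2Cent.permN_repr piN_ok.1)).1 h1)]

theorem thetaP_tInv (h : tInv ∈ Cent) : thetaP ⟨tInv, h⟩ = 1 := by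
  refine thetaP_eq _ _ tInv_list 1 1 ?_ (by decide +kernel)
  simp only [List.all_eq_true, beq_iff_eq]
  intro i _
  rw [← xF_list, ← tInv_list, xF_fixed, Equiv.Perm.one_apply, xF_list]

end H95.McLInv
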