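import Cfsg.Agent.H95.MatElt

/-! Constants for the centraliser of an involution of McLaughlin's group. -/

set_option autoImplicit false

namespace H95.McLInv

open Cfsg Finset

/-- an involution of `M22` -/
def piN : ℕ := 967739223789245171407146504132003936

/-- an element of order four with that square -/
def p4N : ℕ := 966344474150579859220069159063325152

/-- the fixed points in the configuration -/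
def fixL : List (List ℤ) :=
  [[0, 0, 4, 0, 0, 0, 0, 0, 0, 0, 0, 0, 0, 0, 0, 0, 0, 0, 0, 0, 0, 0, 0, 4],
   [0, 0, 0, 0, 4, 0, 0, 0, 0, 0, 0, 0, 0, 0, 0, 0, 0, 0, 0, 0, 0, 0, 0, 4],
   [0, 0, 0, 0, 0, 4, 0, 0, 0, 0, 0, 0, 0, 0, 0, 0, 0, 0, 0, 0, 0, 0, 0, 4],
   [0, 0, 0, 0, 0, 0, 4, 0, 0, 0, 0, 0, 0, 0, 0, 0, 0, 0, 0, 0, 0, 0, 0, 4],
   [0, 0, 0, 0, 0, 0, 0, 0, 0, 0, 4, 0, 0, 0, 0, 0, 0, 0, 0, 0, 0, 0, 0, 4],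
   [0, 0, 0, 0, 0, 0, 0, 0, 0, 0, 0, 4, 0, 0, 0, 0, 0, 0, 0, 0, 0, 0, 0, 4],
   [2, 0, 2, 0, 0, 2, 0, 0, 0, 0, 0, 0, 0, 0, 0, 2, 2, 0, 2, 0, 0, 2, 0, 2],
   [2, 2, 2, 2, 0, 2, 0, 0, 0, 0, 0, 0, 0, 0, 2, 0, 0, 2, 0, 0, 0, 0, 0, 2],
   [1, 1, -1, 1, -1, 1, -1, 1, 1, 1, 1, 1, 1, 1, -1, 1, -1, -1, 1, 1, 1, -1, 1, 3],
   [1, -1, -1, -1, -1, 1, -1, 1, 1, 1, 1, 1, 1, 1, 1, -1, 1, 1, -1, 1, 1, 1, 1, 3],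
   [2, 0, 2, 0, 0, 2, 0, 0, 2, 0, 0, 0, 0, 2, 0, 0, 0, 0, 0, 2, 2, 0, 0, 2],
   [1, 1, -1, 1, -1, 1, -1, -1, -1, 1, 1, 1, -1, -1, 1, 1, 1, 1, 1, 1, 1, 1, 1, 3],
   [1, 1, -1, 1, -1, 1, -1, 1, 1, -1, 1, 1, 1, 1, 1, 1, 1, 1, 1, -1, -1, 1, -1, 3],
   [2, 0, 2, 0, 0, 2, 0, 2, 0, 2, 0, 0, 2, 0, 0, 0, 0, 0, 0, 0, 0, 0, 2, 2],
   [1, 1, 1, 1, -1, -1, 1, 1, 1, 1, -1, 1, 1, 1, 1, -1, 1, 1, -1, -1, -1, 1, 1, 3],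
   [2, 0, 0, 0, 0, 0, 2, 0, 0, 0, 2, 0, 0, 0, 2, 0, 0, 2, 0, 2, 2, 0, 0, 2],
   [1, 1, 1, 1, -1, -1, 1, -1, 1, 1, -1, 1, -1, 1, -1, 1, 1, -1, 1, 1, 1, 1, 1, 3],
   [2, 0, 0, 0, 0, 0, 2, 2, 0, 0, 2, 0, 2, 0, 0, 2, 0, 0, 2, 0, 0, 0, 0, 2],
   [1, 1, 1, 1, -1, -1, 1, 1, -1, 1, -1, 1, 1, -1, 1, 1, -1, 1, 1, 1, 1, -1, 1, 3],
   [2, 2, 0, 2, 0, 0, 2, 0, 2, 0, 2, 0, 0, 2, 0, 0, 0, 0, 0, 0, 0, 0, 0, 2],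
   [1, -1, 1, -1, -1, -1, 1, 1, 1, -1, -1, 1, 1, 1, 1, 1, 1, 1, 1, 1, 1, 1, -1, 3],
   [2, 0, 0, 0, 0, 0, 2, 0, 0, 2, 2, 0, 0, 0, 0, 0, 2, 0, 0, 0, 0, 2, 2, 2],
   [2, 2, 0, 2, 2, 0, 0, 0, 0, 0, 0, 2, 0, 0, 0, 0, 0, 0, 0, 2, 2, 0, 0, 2],
   [1, 1, 1, 1, 1, -1, -1, 1, 1, 1, 1, -1, 1, 1, 1, 1, -1, 1, 1, -1, -1, -1, 1, 3],
   [2, 0, 0, 0, 2, 0, 0, 2, 0, 0, 0, 2, 2, 0, 0, 0, 2, 0, 0, 0, 0, 2, 0, 2],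
   [1, -1, 1, -1, 1, -1, -1, -1, 1, 1, 1, -1, -1, 1, 1, 1, 1, 1, 1, 1, 1, 1, 1, 3],
   [2, 0, 0, 0, 2, 0, 0, 0, 2, 0, 0, 2, 0, 2, 2, 0, 0, 2, 0, 0, 0, 0, 0, 2],
   [1, 1, 1, 1, 1, -1, -1, 1, -1, 1, 1, -1, 1, -1, 1, -1, 1, 1, -1, 1, 1, 1, 1, 3],
   [2, 0, 0, 0, 2, 0, 0, 0, 0, 2, 0, 2, 0, 0, 0, 2, 0, 0, 2, 0, 0, 0, 2, 2],
   [1, 1, 1, 1, 1, -1, -1, 1, 1, -1, 1, -1, 1, 1, -1, 1, 1, -1, 1, 1, 1, 1, -1, 3],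
   [1, 1, -1, 1, 1, 1, 1, 1, 1, 1, -1, -1, 1, 1, -1, -1, 1, -1, -1, 1, 1, 1, 1, 3],
   [1, -1, -1, -1, 1, 1, 1, 1, 1, 1, -1, -1, 1, 1, 1, 1, -1, 1, 1, 1, 1, -1, 1, 3],
   [2, 0, 2, 0, 2, 2, 2, 0, 0, 0, 2, 2, 0, 0, 0, 0, 0, 0, 0, 0, 0, 0, 0, 2],
   [1, 1, -1, 1, 1, 1, 1, -1, 1, 1, -1, -1, -1, 1, 1, 1, 1, 1, 1, -1, -1, 1, 1, 3],
   [1, 1, -1, 1, 1, 1, 1, 1, -1, -1, -1, -1, 1, -1, 1, 1, 1, 1, 1, 1, 1, 1, -1, 3]]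

/-- a side of the partition of eight letters attached to a fixed point -/
def sideL : List ℕ :=
  [15, 51, 85, 153, 195, 105, 147, 57, 27, 177, 99, 141, 39, 201, 83, 23, 53, 113, 163, 77, 197, 43, 209, 149, 29, 89, 139, 101, 71, 169, 135, 45, 165, 225, 75]

/-- coefficients expressing a multiple of `8e` -/
def coL : List ℤ :=
  [3, 2, 0, 2, -1, -1, -1, -1, 1, 1, 0, 2, 2, 0, 0, 0, 0, 0, 0, 0, 0, 0, 0, 0, 0, 0, 0, 0, 0, 0, 0, 0, 0, 0, 0, -2, 0]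

/-- a base for the symmetries -/
def baseL : List ℕ :=
  [0, 1, 6, 2, 8, 14]

/-- transversals along the base: letters and points -/
def transL : List (List (List ℕ × List ℕ)) :=
  [[([0, 1, 2, 3, 4, 5, 6, 7], [0, 1, 2, 3, 4, 5, 6, 7, 8, 9, 10, 11, 12, 13, 14, 15, 16, 17, 18, 19, 20, 21, 22, 23, 24, 25, 26, 27, 28, 29, 30, 31, 32, 33, 34]),
    ([0, 1, 4, 5, 2, 3, 6, 7], [1, 0, 2, 32, 4, 5, 30, 31, 12, 11, 34, 9, 8, 33, 28, 15, 24, 19, 26, 17, 22, 21, 20, 23, 16, 27, 18, 25, 14, 29, 6, 7, 3, 13, 10]),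
    ([0, 2, 4, 6, 1, 3, 5, 7], [2, 0, 1, 4, 32, 5, 30, 34, 28, 26, 31, 22, 24, 33, 12, 15, 8, 21, 11, 17, 9, 19, 18, 6, 14, 10, 20, 7, 16, 13, 23, 25, 3, 29, 27]),
    ([0, 3, 4, 7, 1, 2, 5, 6], [3, 0, 1, 4, 5, 32, 34, 30, 26, 28, 31, 22, 24, 33, 21, 8, 15, 12, 19, 9, 17, 11, 10, 14, 6, 18, 13, 16, 7, 20, 25, 23, 2, 27, 29]),
    ([0, 1, 6, 7, 2, 3, 4, 5], [4, 0, 2, 32, 1, 3, 12, 11, 30, 31, 8, 33, 34, 9, 15, 28, 19, 24, 21, 22, 17, 26, 16, 27, 20, 23, 18, 25, 14, 29, 10, 13, 5, 7, 6]),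
    ([0, 3, 5, 6, 1, 2, 4, 7], [5, 0, 1, 4, 3, 2, 26, 28, 34, 30, 24, 33, 31, 22, 8, 21, 12, 15, 11, 17, 9, 19, 6, 18, 10, 14, 13, 16, 7, 20, 29, 27, 32, 23, 25]),
    ([0, 1, 4, 7, 2, 3, 5, 6], [6, 0, 16, 20, 10, 29, 28, 11, 30, 19, 21, 22, 8, 33, 12, 15, 24, 31, 34, 9, 17, 26, 27, 2, 23, 32, 4, 7, 1, 13, 14, 3, 25, 5, 18]),
    ([0, 3, 4, 5, 1, 2, 6, 7], [7, 0, 14, 18, 13, 27, 26, 12, 21, 30, 19, 9, 24, 33, 34, 8, 15, 28, 11, 17, 22, 31, 4, 6, 1, 10, 29, 2, 25, 32, 3, 16, 23, 20, 5]),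
    ([0, 1, 3, 4, 2, 5, 6, 7], [8, 12, 19, 23, 4, 17, 30, 16, 15, 32, 10, 3, 21, 22, 28, 0, 31, 27, 18, 25, 13, 1, 20, 11, 24, 2, 6, 5, 34, 9, 26, 7, 29, 33, 14]),
    ([0, 4, 5, 7, 1, 2, 3, 6], [9, 15, 21, 4, 25, 11, 14, 30, 6, 28, 24, 33, 16, 13, 8, 1, 12, 0, 2, 29, 5, 23, 34, 10, 18, 26, 22, 31, 7, 20, 17, 32, 27, 19, 3]),
    ([0, 1, 5, 6, 2, 3, 4, 7], [10, 0, 16, 20, 6, 25, 30, 19, 28, 11, 8, 33, 21, 22, 15, 12, 31, 24, 26, 17, 9, 34, 23, 32, 27, 2, 4, 7, 1, 13, 18, 5, 29, 3, 14]),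
    ([0, 2, 3, 7, 1, 4, 5, 6], [11, 15, 21, 4, 27, 9, 28, 6, 30, 14, 16, 13, 24, 33, 12, 0, 8, 1, 2, 29, 5, 23, 10, 34, 26, 18, 20, 7, 31, 22, 19, 3, 25, 17, 32]),
    ([0, 1, 2, 5, 3, 4, 6, 7], [12, 8, 19, 29, 4, 17, 26, 7, 21, 3, 14, 32, 15, 33, 34, 0, 24, 25, 6, 27, 20, 1, 13, 11, 31, 5, 18, 2, 28, 9, 30, 16, 23, 22, 10]),
    ([0, 3, 6, 7, 1, 2, 4, 5], [13, 0, 14, 18, 7, 23, 21, 30, 26, 12, 24, 33, 19, 9, 8, 34, 28, 15, 31, 22, 17, 11, 1, 10, 4, 6, 29, 2, 25, 32, 5, 20, 27, 16, 3]),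
    ([0, 1, 4, 6, 2, 3, 5, 7], [14, 0, 16, 20, 18, 5, 30, 19, 28, 11, 21, 22, 8, 33, 12, 15, 24, 31, 26, 17, 9, 34, 32, 23, 2, 27, 4, 7, 1, 13, 6, 25, 3, 29, 10]),
    ([0, 1, 2, 4, 3, 5, 6, 7], [15, 21, 19, 3, 4, 17, 26, 7, 8, 29, 10, 23, 12, 22, 34, 0, 31, 5, 18, 2, 20, 1, 13, 11, 24, 25, 6, 27, 28, 9, 30, 16, 32, 33, 14]),
    ([0, 2, 4, 5, 1, 3, 6, 7], [16, 0, 14, 18, 20, 5, 30, 21, 12, 26, 19, 9, 24, 33, 28, 15, 8, 34, 11, 17, 22, 31, 4, 6, 1, 10, 32, 25, 2, 29, 23, 7, 3, 13, 27]),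
    ([0, 4, 5, 6, 1, 2, 3, 7], [17, 15, 21, 4, 3, 19, 6, 28, 14, 30, 24, 33, 16, 13, 8, 1, 12, 0, 23, 5, 29, 2, 26, 18, 10, 34, 22, 31, 7, 20, 9, 27, 32, 11, 25]),
    ([0, 1, 5, 7, 2, 3, 4, 6], [18, 0, 16, 20, 14, 3, 28, 11, 30, 19, 8, 33, 21, 22, 15, 12, 31, 24, 34, 9, 17, 26, 2, 27, 32, 23, 4, 7, 1, 13, 10, 29, 5, 25, 6]),
    ([0, 2, 3, 6, 1, 4, 5, 7], [19, 15, 21, 4, 32, 17, 30, 14, 28, 6, 16, 13, 24, 33, 12, 0, 8, 1, 23, 5, 29, 2, 18, 26, 34, 10, 20, 7, 31, 22, 11, 25, 3, 9, 27]),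
    ([0, 2, 6, 7, 1, 3, 4, 5], [20, 0, 14, 18, 16, 3, 12, 26, 30, 21, 24, 33, 19, 9, 15, 28, 34, 8, 31, 22, 17, 11, 1, 10, 4, 6, 32, 25, 2, 29, 27, 13, 5, 7, 23]),
    ([0, 1, 3, 5, 2, 4, 6, 7], [21, 15, 19, 32, 4, 17, 30, 16, 12, 23, 14, 29, 8, 33, 28, 0, 24, 2, 6, 5, 13, 1, 20, 11, 31, 27, 18, 25, 34, 9, 26, 7, 3, 22, 10]),
    ([0, 4, 6, 7, 1, 2, 3, 5], [22, 15, 34, 18, 7, 11, 1, 30, 6, 12, 24, 33, 2, 29, 8, 14, 28, 0, 16, 13, 5, 23, 21, 10, 4, 26, 9, 19, 25, 32, 17, 20, 27, 31, 3]),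
    ([0, 2, 4, 7, 1, 3, 5, 6], [23, 0, 1, 4, 27, 29, 28, 26, 30, 34, 31, 22, 24, 33, 12, 15, 8, 21, 19, 9, 17, 11, 10, 14, 6, 18, 20, 7, 16, 13, 2, 3, 25, 5, 32]),
    ([0, 2, 3, 4, 1, 5, 6, 7], [24, 12, 34, 6, 20, 17, 30, 1, 15, 18, 27, 3, 31, 22, 28, 0, 21, 10, 32, 25, 13, 16, 4, 26, 8, 14, 23, 5, 19, 9, 11, 7, 29, 33, 2]),
    ([0, 3, 4, 6, 1, 2, 5, 7], [25, 0, 1, 4, 29, 27, 26, 28, 34, 30, 31, 22, 24, 33, 21, 8, 15, 12, 11, 17, 9, 19, 18, 6, 14, 10, 13, 16, 7, 20, 3, 2, 23, 32, 5]),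
    ([0, 1, 3, 7, 2, 4, 5, 6], [26, 15, 31, 20, 10, 9, 28, 23, 30, 2, 1, 13, 8, 33, 12, 0, 24, 16, 14, 29, 5, 6, 27, 19, 11, 32, 4, 7, 21, 22, 34, 3, 25, 17, 18]),
    ([0, 2, 5, 6, 1, 3, 4, 7], [27, 0, 1, 4, 23, 25, 30, 34, 28, 26, 24, 33, 31, 22, 15, 12, 21, 8, 11, 17, 9, 19, 6, 18, 10, 14, 20, 7, 16, 13, 32, 5, 29, 3, 2]),
    ([0, 1, 2, 6, 3, 4, 5, 7], [28, 8, 31, 13, 18, 17, 26, 25, 34, 3, 1, 20, 15, 33, 21, 0, 24, 7, 6, 27, 32, 14, 29, 11, 19, 5, 4, 16, 12, 22, 30, 2, 23, 9, 10]),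
    ([0, 3, 5, 7, 1, 2, 4, 6], [29, 0, 1, 4, 25, 23, 34, 30, 26, 28, 24, 33, 31, 22, 8, 21, 12, 15, 19, 9, 17, 11, 14, 10, 18, 6, 13, 16, 7, 20, 5, 32, 27, 2, 3]),
    ([0, 1, 2, 7, 3, 4, 5, 6], [30, 8, 31, 13, 10, 9, 34, 3, 26, 25, 1, 20, 15, 33, 21, 0, 24, 7, 14, 32, 27, 6, 5, 19, 11, 29, 4, 16, 12, 22, 28, 23, 2, 17, 18]),
    ([0, 2, 3, 5, 1, 4, 6, 7], [31, 15, 34, 18, 20, 17, 30, 1, 12, 6, 2, 29, 24, 33, 28, 0, 8, 14, 23, 5, 13, 16, 4, 26, 21, 10, 32, 25, 19, 9, 11, 7, 3, 22, 27]),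
    ([0, 2, 5, 7, 1, 3, 4, 6], [32, 0, 1, 4, 2, 3, 28, 26, 30, 34, 24, 33, 31, 22, 15, 12, 21, 8, 19, 9, 17, 11, 14, 10, 18, 6, 20, 7, 16, 13, 27, 29, 5, 25, 23]),
    ([0, 5, 6, 7, 1, 2, 3, 4], [33, 12, 34, 6, 7, 11, 1, 30, 18, 15, 31, 22, 27, 3, 21, 10, 28, 0, 16, 13, 25, 32, 8, 14, 4, 26, 9, 19, 5, 23, 17, 20, 2, 24, 29]),
    ([0, 1, 3, 6, 2, 4, 5, 7], [34, 15, 31, 20, 18, 17, 30, 2, 28, 23, 1, 13, 8, 33, 12, 0, 24, 16, 6, 5, 29, 14, 32, 11, 19, 27, 4, 7, 21, 22, 26, 25, 3, 9, 10])],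
   [([0, 1, 2, 3, 4, 5, 6, 7], [0, 1, 2, 3, 4, 5, 6, 7, 8, 9, 10, 11, 12, 13, 14, 15, 16, 17, 18, 19, 20, 21, 22, 23, 24, 25, 26, 27, 28, 29, 30, 31, 32, 33, 34]),
    ([0, 2, 1, 3, 4, 6, 5, 7], [0, 2, 1, 3, 32, 5, 23, 25, 24, 22, 27, 26, 28, 29, 16, 15, 14, 17, 20, 21, 18, 19, 9, 6, 8, 7, 11, 10, 12, 13, 30, 34, 4, 33, 31]),
    ([0, 3, 1, 2, 4, 7, 5, 6], [0, 3, 1, 2, 5, 32, 25, 23, 24, 22, 29, 28, 26, 27, 7, 8, 6, 9, 13, 12, 10, 11, 17, 14, 15, 16, 19, 18, 21, 20, 34, 30, 4, 33, 31]),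
    ([0, 1, 2, 3, 6, 7, 4, 5], [0, 4, 2, 5, 1, 3, 10, 13, 34, 33, 6, 31, 30, 7, 14, 28, 20, 22, 18, 24, 16, 26, 17, 27, 19, 25, 21, 23, 15, 29, 12, 11, 32, 9, 8]),
    ([0, 3, 1, 2, 5, 6, 4, 7], [0, 5, 1, 32, 3, 2, 29, 27, 31, 33, 25, 30, 34, 23, 7, 21, 10, 17, 13, 15, 6, 19, 9, 18, 12, 16, 11, 14, 8, 20, 26, 28, 4, 22, 24]),
    ([0, 1, 2, 3, 4, 7, 5, 6], [0, 6, 16, 25, 10, 29, 14, 3, 8, 22, 18, 19, 30, 5, 1, 15, 23, 9, 4, 31, 27, 26, 17, 2, 24, 7, 34, 32, 12, 13, 28, 11, 20, 33, 21]),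
    ([0, 3, 1, 2, 4, 5, 6, 7], [0, 7, 14, 23, 13, 27, 3, 16, 24, 9, 5, 30, 21, 20, 25, 8, 1, 17, 29, 28, 4, 31, 22, 6, 15, 2, 11, 10, 34, 32, 26, 12, 18, 33, 19]),
    ([0, 1, 2, 3, 5, 6, 4, 7], [0, 10, 16, 29, 6, 25, 18, 5, 21, 33, 14, 11, 28, 3, 1, 12, 27, 17, 4, 24, 23, 34, 9, 32, 31, 7, 26, 2, 15, 13, 30, 19, 20, 22, 8]),
    ([0, 3, 1, 2, 6, 7, 4, 5], [0, 13, 14, 27, 7, 23, 5, 20, 19, 33, 3, 12, 26, 16, 25, 34, 4, 22, 29, 15, 1, 11, 17, 10, 28, 2, 31, 6, 8, 32, 21, 30, 18, 9, 24]),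
    ([0, 1, 2, 3, 4, 6, 5, 7], [0, 14, 16, 3, 18, 5, 6, 25, 8, 22, 10, 11, 28, 29, 1, 15, 2, 17, 4, 31, 32, 34, 9, 23, 24, 7, 26, 27, 12, 13, 30, 19, 20, 33, 21]),
    ([0, 2, 1, 3, 4, 5, 6, 7], [0, 16, 14, 3, 20, 5, 23, 7, 24, 9, 27, 26, 12, 13, 2, 15, 1, 17, 32, 34, 4, 31, 22, 6, 8, 25, 11, 10, 28, 29, 30, 21, 18, 33, 19]),
    ([0, 1, 2, 3, 5, 7, 4, 6], [0, 18, 16, 5, 14, 3, 10, 29, 21, 33, 6, 19, 30, 25, 1, 12, 32, 9, 4, 24, 2, 26, 17, 27, 31, 7, 34, 23, 15, 13, 28, 11, 20, 22, 8]),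
    ([0, 2, 1, 3, 6, 7, 4, 5], [0, 20, 14, 5, 16, 3, 27, 13, 19, 33, 23, 21, 30, 7, 2, 28, 4, 22, 32, 8, 1, 11, 17, 10, 34, 25, 31, 6, 15, 29, 12, 26, 18, 9, 24]),
    ([0, 2, 1, 3, 4, 7, 5, 6], [0, 23, 1, 25, 27, 29, 2, 3, 24, 22, 32, 34, 30, 5, 16, 15, 6, 9, 20, 21, 10, 11, 17, 14, 8, 7, 19, 18, 12, 13, 28, 26, 4, 33, 31]),
    ([0, 3, 1, 2, 4, 6, 5, 7], [0, 25, 1, 23, 29, 27, 3, 2, 24, 22, 5, 30, 34, 32, 7, 8, 14, 17, 13, 12, 18, 19, 9, 6, 15, 16, 11, 10, 21, 20, 26, 28, 4, 33, 31]),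
    ([0, 2, 1, 3, 5, 6, 4, 7], [0, 27, 1, 29, 23, 25, 32, 5, 31, 33, 2, 26, 28, 3, 16, 12, 10, 17, 20, 8, 6, 19, 9, 18, 21, 7, 11, 14, 15, 13, 30, 34, 4, 22, 24]),
    ([0, 3, 1, 2, 5, 7, 4, 6], [0, 29, 1, 27, 25, 23, 5, 32, 31, 33, 3, 28, 26, 2, 7, 21, 18, 9, 13, 15, 14, 11, 17, 10, 12, 16, 19, 6, 8, 20, 34, 30, 4, 22, 24]),
    ([0, 2, 1, 3, 5, 7, 4, 6], [0, 32, 1, 5, 2, 3, 27, 29, 31, 33, 23, 34, 30, 25, 16, 12, 18, 9, 20, 8, 14, 11, 17, 10, 21, 7, 19, 6, 15, 13, 28, 26, 4, 22, 24])],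
   [([0, 1, 2, 3, 4, 5, 6, 7], [0, 1, 2, 3, 4, 5, 6, 7, 8, 9, 10, 11, 12, 13, 14, 15, 16, 17, 18, 19, 20, 21, 22, 23, 24, 25, 26, 27, 28, 29, 30, 31, 32, 33, 34]),
    ([4, 5, 6, 7, 0, 1, 2, 3], [0, 1, 2, 3, 4, 5, 7, 6, 9, 8, 13, 12, 11, 10, 16, 17, 14, 15, 20, 21, 18, 19, 24, 25, 22, 23, 28, 29, 26, 27, 30, 31, 32, 33, 34]),
    ([0, 1, 2, 3, 5, 4, 7, 6], [0, 1, 32, 5, 4, 3, 10, 7, 21, 17, 6, 19, 15, 13, 18, 12, 16, 9, 14, 11, 20, 8, 33, 27, 31, 29, 34, 23, 30, 25, 28, 24, 2, 22, 26]),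
    ([4, 5, 6, 7, 1, 0, 3, 2], [0, 1, 32, 5, 4, 3, 13, 6, 19, 15, 7, 21, 17, 10, 20, 11, 14, 8, 16, 12, 18, 9, 33, 29, 31, 27, 34, 25, 30, 23, 26, 22, 2, 24, 28]),
    ([0, 1, 2, 3, 4, 5, 7, 6], [0, 1, 23, 25, 4, 29, 14, 7, 8, 17, 18, 19, 12, 13, 6, 15, 16, 9, 10, 11, 20, 21, 22, 2, 24, 3, 34, 32, 30, 5, 28, 31, 27, 33, 26]),
    ([4, 5, 6, 7, 0, 1, 3, 2], [0, 1, 25, 23, 4, 27, 16, 6, 9, 15, 20, 21, 11, 10, 7, 17, 14, 8, 13, 12, 18, 19, 24, 2, 22, 3, 34, 32, 30, 5, 26, 31, 29, 33, 28]),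
    ([0, 1, 2, 3, 5, 4, 6, 7], [0, 1, 27, 29, 4, 25, 18, 7, 21, 9, 14, 11, 15, 13, 10, 12, 16, 17, 6, 19, 20, 8, 33, 32, 31, 5, 26, 2, 28, 3, 30, 24, 23, 22, 34]),
    ([4, 5, 6, 7, 1, 0, 2, 3], [0, 1, 29, 27, 4, 23, 20, 6, 19, 8, 16, 12, 17, 10, 13, 11, 14, 15, 7, 21, 18, 9, 33, 32, 31, 5, 28, 2, 26, 3, 30, 22, 25, 24, 34])],
   [([0, 1, 2, 3, 4, 5, 6, 7], [0, 1, 2, 3, 4, 5, 6, 7, 8, 9, 10, 11, 12, 13, 14, 15, 16, 17, 18, 19, 20, 21, 22, 23, 24, 25, 26, 27, 28, 29, 30, 31, 32, 33, 34]),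
    ([0, 1, 3, 2, 4, 5, 6, 7], [0, 1, 25, 23, 4, 27, 6, 16, 15, 9, 10, 11, 21, 20, 14, 8, 7, 17, 18, 19, 13, 12, 22, 3, 24, 2, 30, 5, 34, 32, 26, 31, 29, 33, 28]),
    ([1, 0, 2, 3, 4, 5, 6, 7], [0, 1, 29, 27, 4, 23, 6, 20, 8, 19, 10, 17, 12, 16, 14, 15, 13, 11, 18, 9, 7, 21, 31, 5, 33, 32, 26, 3, 28, 2, 30, 22, 25, 24, 34]),
    ([1, 0, 3, 2, 4, 5, 6, 7], [0, 1, 32, 5, 4, 3, 6, 13, 15, 19, 10, 17, 21, 7, 14, 8, 20, 11, 18, 9, 16, 12, 31, 27, 33, 29, 30, 23, 34, 25, 26, 22, 2, 24, 28])],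
   [([0, 1, 2, 3, 4, 5, 6, 7], [0, 1, 2, 3, 4, 5, 6, 7, 8, 9, 10, 11, 12, 13, 14, 15, 16, 17, 18, 19, 20, 21, 22, 23, 24, 25, 26, 27, 28, 29, 30, 31, 32, 33, 34]),
    ([2, 3, 0, 1, 6, 7, 4, 5], [0, 1, 2, 3, 4, 5, 6, 7, 9, 8, 10, 12, 11, 13, 18, 19, 20, 21, 14, 15, 16, 17, 26, 27, 28, 29, 22, 23, 24, 25, 31, 30, 32, 34, 33])],
   [([0, 1, 2, 3, 4, 5, 6, 7], [0, 1, 2, 3, 4, 5, 6, 7, 8, 9, 10, 11, 12, 13, 14, 15, 16, 17, 18, 19, 20, 21, 22, 23, 24, 25, 26, 27, 28, 29, 30, 31, 32, 33, 34])]]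

/-- the first matrix -/
def hRowsA : List (List ℤ) :=
  [[5, -1, 1, -1, 1, -1, -1, -1, 1, -1, -3, -1, -1, 1, -1, 1, -1, -1, 1, -1, -1, -1, -1, 3],
   [-1, 1, -1, 1, -1, 1, 1, 1, 3, 1, -1, -3, 1, -1, 1, 3, 1, 1, -1, -3, 1, -3, 1, 1],
   [-1, -3, -1, -3, -1, 1, -3, 1, 3, 1, -1, 1, 1, 3, 1, -1, 1, 1, -1, 1, 1, 1, 1, 1],
   [-1, 1, -1, 1, -1, 1, 1, 1, -1, 1, -1, -3, 1, 3, 1, -1, -3, 1, 3, 1, -3, 1, 1, 1],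
   [-3, -1, 1, -1, 1, -1, -1, -1, 1, -1, 5, -1, -1, 1, -1, 1, -1, -1, 1, -1, -1, -1, -1, 3],
   [1, -1, 1, -1, 1, -1, 3, -1, 1, -1, 1, -1, -1, 1, 3, 1, -1, 3, 1, 3, 3, -1, -1, -1],
   [1, -1, 1, -1, 1, -1, 3, -1, 1, 3, 1, -1, -1, 1, -1, 1, 3, -1, 1, -1, -1, 3, 3, -1],
   [1, 3, 1, -1, 1, 3, -1, -1, 1, -1, 1, -1, 3, 1, -1, 1, 3, -1, 1, 3, -1, -1, -1, -1],
   [-1, 1, -1, 1, 3, 1, 1, -3, -1, -3, -1, 1, 1, 3, 1, -1, 1, 1, -1, -3, 1, 1, 1, 1],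
   [-1, 1, 3, 1, -1, 1, 1, 1, -1, 1, -1, 1, -3, 3, 1, -1, 1, -3, -1, 1, 1, -3, 1, 1],
   [-1, 1, -1, 1, -1, 1, -3, -3, -1, 1, -1, 1, -3, -1, 1, 3, 1, 1, 3, 1, 1, 1, 1, 1],
   [-1, 1, 3, 1, 3, -3, -3, 1, -1, 1, -1, -3, 1, -1, 1, -1, 1, 1, -1, 1, 1, 1, 1, 1],
   [1, -1, 1, 3, 1, 3, -1, 3, 1, -1, 1, -1, -1, 1, -1, 1, -1, -1, 1, -1, 3, 3, -1, -1],
   [-1, 1, -1, 1, 3, 1, 1, 1, 3, 1, -1, 1, -3, -1, 1, -1, 1, 1, -1, 1, -3, 1, -3, 1],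
   [-1, 1, -1, -3, 3, 1, 1, 1, -1, 1, -1, 1, 1, -1, 1, 3, -3, -3, -1, 1, 1, 1, 1, 1],
   [-1, 1, 3, -3, -1, 1, 1, 1, -1, 1, -1, 1, 1, -1, 1, -1, 1, 1, 3, -3, 1, 1, -3, 1],
   [-1, 1, -1, 1, -1, -3, 1, 1, 3, -3, -1, 1, 1, -1, 1, -1, 1, -3, 3, 1, 1, 1, 1, 1],
   [-1, -3, -1, 1, 3, 1, 1, 1, -1, 1, -1, 1, 1, -1, -3, -1, 1, 1, 3, 1, 1, -3, 1, 1],
   [-1, -3, 3, 1, -1, 1, 1, 1, -1, -3, -1, 1, 1, -1, 1, 3, 1, 1, -1, 1, -3, 1, 1, 1],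
   [1, -1, 1, 3, 1, -1, -1, -1, 1, 3, 1, 3, 3, 1, 3, 1, -1, -1, 1, -1, -1, -1, -1, -1],
   [1, 3, 1, -1, 1, -1, -1, 3, 1, -1, 1, 3, -1, 1, -1, 1, -1, 3, 1, -1, -1, -1, 3, -1],
   [-1, 1, -1, 1, -1, -3, 1, 1, -1, 1, -1, 1, 1, 3, -3, 3, 1, 1, -1, 1, 1, 1, -3, 1],
   [-1, 1, 3, 1, -1, 1, 1, -3, 3, 1, -1, 1, 1, -1, -3, -1, -3, 1, -1, 1, 1, 1, 1, 1],
   [3, 1, -1, 1, -1, 1, 1, 1, -1, 1, 3, 1, 1, -1, 1, -1, 1, 1, -1, 1, 1, 1, 1, 5]]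

/-- the second matrix -/
def hRowsB : List (List ℤ) :=
  [[5, -1, -1, -1, 1, 1, -3, 1, -1, -1, -1, -1, 1, -1, -1, -1, -1, -1, -1, 1, 1, -1, -1, 3],
   [1, -1, 3, -1, 1, 1, 1, 1, -1, 3, -1, -1, 1, 3, 3, -1, -1, -1, 3, 1, 1, -1, -1, -1],
   [1, 3, -1, 3, 1, 1, 1, 1, 3, -1, 3, -1, 1, 3, -1, -1, -1, -1, -1, 1, 1, -1, -1, -1],
   [1, -1, 3, -1, 1, 1, 1, 1, 3, -1, -1, -1, 1, -1, -1, 3, -1, 3, -1, 1, 1, -1, 3, -1],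
   [1, -1, -1, -1, 1, 1, 1, 1, -1, 3, 3, -1, 1, -1, -1, -1, 3, -1, -1, 1, 1, 3, 3, -1],
   [-1, 1, 1, 1, -1, -1, -1, -1, 1, 1, -3, 1, -1, 1, -3, 1, 1, -3, 1, 3, 3, 1, 1, 1],
   [-1, 1, -3, 1, 3, 3, -1, -1, 1, 1, -3, -3, -1, 1, 1, 1, 1, 1, 1, -1, -1, 1, 1, 1],
   [1, -1, -1, 3, 1, 1, 1, 1, -1, -1, -1, 3, 1, -1, -1, -1, -1, 3, 3, 1, 1, 3, -1, -1],
   [-1, 1, -3, -3, -1, -1, -1, -1, 1, 1, 1, 1, 3, 1, 1, 1, -3, 1, 1, -1, 3, 1, 1, 1],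
   [-1, 1, 1, 1, 3, -1, -1, -1, 1, 1, 1, 1, -1, -3, 1, -3, 1, 1, 1, -1, 3, -3, 1, 1],
   [-3, -1, -1, -1, 1, 1, 5, 1, -1, -1, -1, -1, 1, -1, -1, -1, -1, -1, -1, 1, 1, -1, -1, 3],
   [-1, 1, 1, 1, -1, -1, -1, 3, 1, 1, -3, 1, 3, 1, 1, -3, 1, 1, -3, -1, -1, 1, 1, 1],
   [1, 3, -1, -1, 1, 1, 1, 1, -1, -1, -1, 3, 1, -1, 3, 3, 3, -1, -1, 1, 1, -1, -1, -1],
   [-1, -3, -3, 1, -1, -1, -1, 3, 1, 1, 1, 1, -1, 1, 1, 1, 1, 1, 1, 3, -1, -3, 1, 1],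
   [-1, 1, 1, -3, -1, 3, -1, -1, 1, -3, 1, 1, -1, 1, 1, -3, 1, 1, 1, 3, -1, 1, 1, 1],
   [-1, 1, 1, 1, -1, -1, -1, -1, 1, 1, 1, -3, 3, -3, 1, 1, 1, 1, 1, 3, -1, 1, -3, 1],
   [-1, 1, 1, -3, 3, -1, -1, 3, 1, 1, 1, 1, -1, 1, -3, 1, 1, 1, 1, -1, -1, 1, -3, 1],
   [-1, -3, 1, 1, -1, 3, -1, -1, 1, 1, 1, 1, -1, 1, 1, 1, 1, 1, -3, -1, 3, 1, -3, 1],
   [-1, 1, 1, 1, -1, -1, -1, 3, -3, -3, 1, -3, -1, 1, 1, 1, 1, 1, 1, -1, 3, 1, 1, 1],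
   [-1, 1, 1, 1, -1, 3, -1, -1, -3, 1, 1, 1, 3, 1, -3, 1, 1, 1, 1, -1, -1, -3, 1, 1],
   [-1, 1, 1, 1, -1, 3, -1, 3, 1, 1, 1, 1, -1, -3, 1, 1, -3, -3, 1, -1, -1, 1, 1, 1],
   [-1, -3, 1, 1, 3, -1, -1, -1, 1, -3, 1, 1, 3, 1, 1, 1, 1, -3, 1, -1, -1, 1, 1, 1],
   [-1, 1, 1, 1, 3, -1, -1, -1, -3, 1, 1, 1, -1, 1, 1, 1, -3, 1, -3, 3, -1, 1, 1, 1],
   [3, 1, 1, 1, -1, -1, 3, -1, 1, 1, 1, 1, -1, 1, 1, 1, 1, 1, 1, -1, -1, 1, 1, 5]]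

/-- images of the letters under the generators -/
def genS : List (List ℕ) :=
  [[3, 7, 5, 4, 1, 0, 6, 2],
   [2, 7, 0, 3, 4, 6, 1, 5],
   [0, 3, 2, 1, 4, 7, 6, 5]]

/-- images of the points under the generators -/
def genP : List (List ℕ) :=
  [[28, 26, 23, 33, 1, 25, 17, 8, 27, 0, 13, 4, 29, 18, 16, 2, 21, 34, 11, 30, 6, 3, 9, 22, 20, 32, 10, 5, 15, 24, 14, 7, 31, 19, 12],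
   [11, 21, 15, 4, 25, 9, 34, 18, 10, 26, 7, 31, 20, 22, 5, 23, 2, 29, 8, 0, 12, 1, 13, 16, 24, 33, 14, 28, 30, 6, 32, 19, 27, 3, 17],
   [0, 3, 2, 1, 5, 4, 7, 6, 8, 9, 13, 12, 11, 10, 25, 24, 23, 22, 29, 28, 27, 26, 17, 16, 15, 14, 21, 20, 19, 18, 31, 30, 32, 33, 34]]

/-- derivation of the even permutations -/
def stepL : List (ℕ × ℕ) :=
  [(0, 0), (0, 1), (0, 2), (1, 0), (1, 1), (1, 2), (2, 1), (2, 2),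
   (3, 0), (3, 1), (4, 0), (4, 1), (5, 0), (5, 1), (6, 0), (7, 1),
   (7, 2), (8, 0), (9, 0), (9, 2), (10, 0), (10, 1), (11, 0), (11, 1),
   (11, 2), (12, 0), (12, 1), (12, 2), (13, 2), (14, 0), (15, 0), (15, 2),
   (16, 2), (17, 0), (18, 1), (19, 1), (20, 0), (21, 0), (21, 1), (22, 0),
   (23, 1), (24, 0), (24, 1), (24, 2), (25, 0), (25, 1), (26, 0), (26, 2),
   (27, 0), (28, 0), (28, 1), (29, 1), (30, 1), (31, 0), (32, 0), (33, 0),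
   (34, 0), (34, 2), (35, 1), (36, 1), (38, 2), (39, 0), (40, 0), (41, 1),
   (42, 1), (43, 1), (44, 1), (45, 0), (46, 2), (47, 0), (47, 1), (48, 0),
   (49, 1), (50, 0), (51, 0), (52, 0), (53, 0), (54, 1), (55, 0), (56, 2),
   (57, 1), (58, 0), (59, 1), (60, 0), (61, 1), (62, 0), (63, 1), (64, 0),
   (65, 0), (66, 0), (67, 0), (68, 0), (69, 0), (70, 1), (71, 2), (72, 0),
   (73, 0), (74, 0), (75, 2), (76, 1), (77, 2), (78, 1), (79, 0), (80, 0),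
   (81, 1), (82, 1), (83, 2), (84, 1), (85, 2), (86, 0), (87, 0), (88, 0),
   (89, 0), (90, 1), (91, 0), (92, 1), (93, 1), (95, 1), (96, 1), (97, 0),
   (98, 0), (99, 1), (100, 0), (102, 0), (103, 2), (104, 2), (105, 2), (106, 1),
   (107, 0), (108, 0), (109, 0), (110, 0), (111, 1), (111, 2), (112, 0), (113, 0),
   (114, 0), (115, 2), (116, 2), (117, 0), (118, 2), (119, 0), (120, 2), (121, 1),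
   (122, 0), (123, 1), (124, 1), (125, 0), (126, 0), (127, 0), (130, 0), (131, 0),
   (132, 1), (133, 0), (134, 1), (136, 1), (137, 2), (138, 1), (139, 0), (140, 0),
   (141, 0), (142, 2), (144, 1), (145, 2), (147, 0), (148, 0), (149, 1), (150, 0),
   (152, 0), (153, 0), (155, 0), (156, 1), (157, 1), (160, 0), (161, 1), (163, 2),
   (164, 1), (165, 0), (169, 1), (176, 0), (177, 2)]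

theorem hRowsA_gens : matOK hRowsA = true := by decide +kernel

theorem hRowsA_orth : ∀ a b : GolayPt, ∑ p, entryL hRowsA p a * entryL hRowsA p b =
    if a = b then 64 else 0 := by decide +kernel

theorem hRowsB_gens : matOK hRowsB = true := by decide +kernel

theorem hRowsB_orth : ∀ a b : GolayPt, ∑ p, entryL hRowsB p a * entryL hRowsB p b =
    if a = b then 64 else 0 := by decide +kernel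

/-- the first element -/
def hMatA : MatData := ⟨hRowsA, hRowsA_gens, hRowsA_orth⟩

/-- the second element -/
def hMatB : MatData := ⟨hRowsB, hRowsB_gens, hRowsB_orth⟩

end H95.McLInv
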