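import Cfsg.Agent.H95.McLInv.Data

/-!
The symmetries of the inner products of the fixed points come from permutations of eight letters,
the fixed points being the partitions into two sets of four.
-/

set_option autoImplicit false
set_option maxRecDepth 20000

namespace H95.McLInv

open Cfsg Finset

/-- a permutation from a list of images -/
def permL {n : ℕ} [NeZero n] (l : List ℕ) : Equiv.Perm (Fin n) :=
  let f : Fin n → Fin n := fun i => Fin.ofNat n (l.getD i.val 0)
  let g : Fin n → Fin n := fun i => Fin.ofNat n (l.findIdx fun x => x == i.val)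
  if h : (∀ i, g (f i) = i) ∧ ∀ i, f (g i) = i then ⟨f, g, h.1, h.2⟩ else 1

/-- whether a letter is on the listed side -/
def side (i : Fin 35) (a : Fin 8) : Bool := (sideL.getD i.val 0).testBit a.val

/-- whether two letters are on the same side -/
def eqs (i : Fin 35) (a b : Fin 8) : Bool := side i a == side i b

/-- a permutation of the letters inducing one of the points -/
def Compat (p : Equiv.Perm (Fin 35)) (s : Equiv.Perm (Fin 8)) : Prop :=
  ∀ i a b, eqs i a b = eqs (p i) (s a) (s b)

/-- the same, computed -/
def compatB (p : Equiv.Perm (Fin 35)) (s : Equiv.Perm (Fin 8)) : Bool :=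
  (List.finRange 35).all fun i => (List.finRange 8).all fun a => (List.finRange 8).all fun b =>
    eqs i a b == eqs (p i) (s a) (s b)

theorem compatB_spec {p : Equiv.Perm (Fin 35)} {s : Equiv.Perm (Fin 8)} (h : compatB p s = true) :
    Compat p s := by
  simp only [compatB, List.all_eq_true, beq_iff_eq] at h
  exact fun i a b => h i (List.mem_finRange i) a (List.mem_finRange a) b (List.mem_finRange b)

theorem compat_one : Compat 1 1 := fun _ _ _ => rfl

theorem Compat.mul {p q : Equiv.Perm (Fin 35)} {s t : Equiv.Perm (Fin 8)} (h : Compat p s)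
    (k : Compat q t) : Compat (p * q) (s * t) := fun i a b => (k i a b).trans (h (q i) (t a) (t b))

theorem Compat.inv {p : Equiv.Perm (Fin 35)} {s : Equiv.Perm (Fin 8)} (h : Compat p s) :
    Compat p⁻¹ s⁻¹ := fun i a b => by
  have := h (p⁻¹ i) (s⁻¹ a) (s⁻¹ b)
  simpa using this.symm

theorem pair_sig : ∀ a b c d : Fin 8, a ≠ b → c ≠ d →
    ((List.finRange 35).all fun i => eqs i a b == eqs i c d) = true →
      (c = a ∧ d = b) ∨ (c = b ∧ d = a) := by decide +kernel

theorem point_sig : ∀ i j : Fin 35, ((List.finRange 8).all fun a => (List.finRange 8).all fun b =>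
    eqs i a b == eqs j a b) = true → i = j := by decide +kernel

theorem Compat.left_one {p : Equiv.Perm (Fin 35)} (h : Compat p 1) : p = 1 :=
  Equiv.ext fun i => by
    refine (point_sig i (p i) ?_).symm
    simp only [List.all_eq_true, beq_iff_eq]
    exact fun a _ b _ => h i a b

theorem Compat.right_one {s : Equiv.Perm (Fin 8)} (h : Compat 1 s) : s = 1 := by
  have hpair : ∀ a b : Fin 8, a ≠ b → (s a = a ∧ s b = b) ∨ (s a = b ∧ s b = a) := fun a b hab =>
    pair_sig a b (s a) (s b) hab (fun e => hab (s.injective e)) (by
      simp only [List.all_eq_true, beq_iff_eq]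
      exact fun i _ => h i a b)
  have htwo : ∀ a : Fin 8, ∃ b c : Fin 8, a ≠ b ∧ a ≠ c ∧ b ≠ c := by decide +kernel
  refine Equiv.ext fun a => ?_
  obtain ⟨b, c, hab, hac, hbc⟩ := htwo a
  rcases hpair a b hab with ⟨h1, -⟩ | ⟨h1, -⟩
  · exact h1
  · rcases hpair a c hac with ⟨h2, -⟩ | ⟨h2, -⟩
    · exact h2
    · exact absurd (h1.symm.trans h2) hbc

theorem Compat.unique {p : Equiv.Perm (Fin 35)} {s t : Equiv.Perm (Fin 8)} (h : Compat p s)
    (k : Compat p t) : s = t := by
  have := h.inv.mul k
  rw [inv_mul_cancel] at this
  exact inv_mul_eq_one.mp this.right_one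

/-- the inner product of two fixed points -/
def dotF (i j : Fin 35) : ℤ := dotL (fixL.getD i.val []) (fixL.getD j.val [])

/-- preserving the inner products -/
def DotPres (p : Equiv.Perm (Fin 35)) : Prop := ∀ i j, dotF (p i) (p j) = dotF i j

theorem DotPres.mul {p q : Equiv.Perm (Fin 35)} (h : DotPres p) (k : DotPres q) :
    DotPres (p * q) := fun i j => (h (q i) (q j)).trans (k i j)

theorem DotPres.inv {p : Equiv.Perm (Fin 35)} (h : DotPres p) : DotPres p⁻¹ := fun i j => by
  simpa using (h (p⁻¹ i) (p⁻¹ j)).symm

/-- the same, computed -/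
def dotB (p : Equiv.Perm (Fin 35)) : Bool :=
  (List.finRange 35).all fun i => (List.finRange 35).all fun j => dotF (p i) (p j) == dotF i j

theorem dotB_spec {p : Equiv.Perm (Fin 35)} (h : dotB p = true) : DotPres p := by
  simp only [dotB, List.all_eq_true, beq_iff_eq] at h
  exact fun i j => h i (List.mem_finRange i) j (List.mem_finRange j)

/-- a base point -/
def baseAt (m : ℕ) : Fin 35 := Fin.ofNat 35 (baseL.getD m 0)

/-- a point looks like the base point of its level -/
def candB (l : ℕ) (j : Fin 35) : Bool :=
  (List.range l).all (fun m => dotF j (baseAt m) == dotF (baseAt l) (baseAt m)) &&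
    dotF j j == dotF (baseAt l) (baseAt l)

/-- every candidate of a level is reached -/
def levelOK (l : ℕ) : Bool :=
  (List.finRange 35).all fun j => !candB l j || (transL.getD l []).any fun t =>
    permL (n := 35) t.2 (baseAt l) == j &&
      (List.range l).all fun m => permL (n := 35) t.2 (baseAt m) == baseAt m

theorem trans_ok : transL.flatten.all (fun t => compatB (permL t.2) (permL t.1) && dotB (permL t.2))
    = true := by decide +kernel

theorem levels_ok : (List.range 6).all levelOK = true := by decide +kernel

theorem base_resolves : ∀ i j : Fin 35,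
    ((List.range 6).all fun m => dotF i (baseAt m) == dotF j (baseAt m)) = true → i = j := by
  decide +kernel

theorem exists_compat {p : Equiv.Perm (Fin 35)} (hp : DotPres p) : ∃ s, Compat p s := by
  have key : ∀ l ≤ 6, ∃ p' s', Compat p' s' ∧ DotPres p' ∧
      ∀ m < l, (p'⁻¹ * p) (baseAt m) = baseAt m := by
    intro l
    induction l with
    | zero => exact fun _ => ⟨1, 1, compat_one, fun i j => rfl, fun m hm => absurd hm (by omega)⟩
    | succ l ih =>
      intro hl
      obtain ⟨p', s', hc, hd, hfix⟩ := ih (by omega)
      set q := p'⁻¹ * p with hq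
      have hqd : DotPres q := hd.inv.mul hp
      have hcand : candB l (q (baseAt l)) = true := by
        simp only [candB, Bool.and_eq_true, List.all_eq_true, beq_iff_eq, List.mem_range]
        refine ⟨fun m hm => ?_, hqd _ _⟩
        conv_lhs => rw [← hfix m hm]
        exact hqd _ _
      have h := List.all_eq_true.mp (List.all_eq_true.mp levels_ok l (List.mem_range.mpr (by omega)))
        (q (baseAt l)) (List.mem_finRange _)
      rw [hcand, Bool.not_true, Bool.false_or, List.any_eq_true] at h
      obtain ⟨t, ht, he⟩ := h
      simp only [Bool.and_eq_true, beq_iff_eq, List.all_eq_true, List.mem_range] at he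
      have htmem : t ∈ transL.flatten := by
        refine List.mem_flatten.mpr ⟨transL.getD l [], ?_, ht⟩
        by_cases hlt : l < transL.length
        · rw [List.getD_eq_getElem _ _ hlt]; exact List.getElem_mem hlt
        · rw [List.getD_eq_default _ _ (Nat.le_of_not_lt hlt)] at ht; exact absurd ht List.not_mem_nil
      have hok := List.all_eq_true.mp trans_ok t htmem
      rw [Bool.and_eq_true] at hok
      refine ⟨p' * permL t.2, s' * permL t.1, hc.mul (compatB_spec hok.1),
        hd.mul (dotB_spec hok.2), fun m hm => ?_⟩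
      rw [mul_inv_rev, mul_assoc, ← hq, Equiv.Perm.mul_apply, Equiv.Perm.inv_eq_iff_eq]
      rcases Nat.lt_succ_iff_lt_or_eq.mp hm with hm | rfl
      · rw [hfix m hm, he.2 m hm]
      · exact he.1.symm
  obtain ⟨p', s', hc, hd, hfix⟩ := key 6 le_rfl
  have h1 : p'⁻¹ * p = 1 := Equiv.ext fun i => by
    refine base_resolves _ _ ?_
    simp only [List.all_eq_true, beq_iff_eq, List.mem_range]
    intro m hm
    conv_lhs => rw [← hfix m hm]
    exact (hd.inv.mul hp) _ _
  exact ⟨s', by rw [← inv_mul_eq_one.mp h1]; exact hc⟩

end H95.McLInv
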