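import Cfsg.Agent.H95.McLInv.Cent
import Cfsg.Agent.H25.M22Classes
import Cfsg.Prelude.Def_SporadicB

/-!
McLaughlin's group has one class of involutions, with centraliser a non-split double cover of `A8`.
-/

set_option autoImplicit false
set_option maxRecDepth 20000

namespace H95.McLInv

open Cfsg Finset

theorem p4N_ok : Co2Cent.permOK p4N = true ∧ Co2Cent.srcOK p4N = true ∧
    H90.img p4N 23 = 23 ∧ H90.img p4N 0 = 0 ∧
    H87.eqB (H90.compN p4N p4N) piN = true := by decide +kernel

/-- an element of order four -/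
noncomputable def p4 : Spor.M22 :=
  ⟨(Co2Cent.permN p4N).1, ⟨(Co2Cent.permN p4N).2, (fix_of_img p4N_ok.1 p4N_ok.2.2.1 p4N_ok.2.2.2.1).1⟩,
    (fix_of_img p4N_ok.1 p4N_ok.2.2.1 p4N_ok.2.2.2.1).2⟩

theorem p4_sq : p4 * p4 = pi22 :=
  Subtype.ext ((H87.eqB_iff ((Co2Cent.permN_repr p4N_ok.1).mul (Co2Cent.permN_repr p4N_ok.1))
    pi22_repr).1 p4N_ok.2.2.2.2)

/-- the lift of a double transposition -/
noncomputable def gC : Cent :=
  ⟨emb22 p4, Subgroup.mem_centralizer_singleton_iff.mpr (by
    rw [tInv, ← map_mul, ← map_mul, ← p4_sq, mul_assoc])⟩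

theorem gC_sq : (gC * gC : Cent).1 = tInv := by
  show emb22 p4 * emb22 p4 = tInv
  rw [← map_mul, p4_sq]; rfl

theorem gC_list (y : leechLattice) :
    vecL ((coEl gC.1 • y : leechLattice) : GolayPt → ℤ)
      = Co2Cent.permLW p4N (vecL (y : GolayPt → ℤ)) := by
  show vecL ((coEl (emb22 p4) • y : leechLattice) : GolayPt → ℤ) = _
  rw [coEl_emb22]
  exact Co2Cent.vecL_permN p4N_ok.1 p4N_ok.2.1 y

/-- a list map fixes the two vectors and commutes with the involution -/
def inCentB (f : List ℤ → List ℤ) : Bool :=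
  f (List.ofFn fun i : Fin 24 => if i.val = 23 then (-5 : ℤ) else -1) ==
      (List.ofFn fun i : Fin 24 => if i.val = 23 then (-5 : ℤ) else -1) &&
    f (List.ofFn fun i : Fin 24 => if i.val = 23 ∨ i.val = 0 then (4 : ℤ) else 0) ==
      (List.ofFn fun i : Fin 24 => if i.val = 23 ∨ i.val = 0 then (4 : ℤ) else 0) &&
    (List.finRange 24).all fun i =>
      f (Co2Cent.permLW piN (eightL i)) == Co2Cent.permLW piN (f (eightL i))

theorem vecL_leechV : vecL (Spor.leechV : GolayPt → ℤ) =
    List.ofFn fun i : Fin 24 => if i.val = 23 then (-5 : ℤ) else -1 := by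
  show vecL Spor.vecV = _
  decide +kernel

theorem exists_cent (D : MatData) (h : inCentB (applyL D.E) = true) :
    ∃ g : Cent, coEl g.1 = D.elt := by
  simp only [inCentB, Bool.and_eq_true, beq_iff_eq, List.all_eq_true] at h
  obtain ⟨⟨hV, hU⟩, hT⟩ := h
  have hmem : D.elt ∈ pvU.group := by
    refine ⟨eq_of_vecL ?_, eq_of_vecL ?_⟩
    · rw [D.vecL_elt, vecL_leechV]; exact hV
    · show vecL ((D.elt • Spor.leechU : leechLattice) : GolayPt → ℤ) = _
      rw [D.vecL_elt, Co2Cent.vecL_leechU, hU]
      exact Co2Cent.vecL_leechU.symm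
  have hco : coEl (mEquiv.symm ⟨D.elt, hmem⟩) = D.elt := by
    show (mEquiv (mEquiv.symm ⟨D.elt, hmem⟩)).1 = _
    rw [MulEquiv.apply_symm_apply]
  refine ⟨⟨mEquiv.symm ⟨D.elt, hmem⟩, Subgroup.mem_centralizer_singleton_iff.mpr (coEl_injective ?_)⟩, hco⟩
  rw [map_mul, map_mul, hco]
  refine eq_of_eights fun i => ?_
  rw [mul_smul, mul_smul, D.vecL_elt, tInv_list, tInv_list, D.vecL_elt, vecL_eight]
  exact hT i (List.mem_finRange _)

theorem inCent_mats : inCentB (applyL hRowsA) = true ∧ inCentB (applyL hRowsB) = true := by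
  decide +kernel

/-- images of the letters -/
def genPerm (k : ℕ) : Equiv.Perm (Fin 8) := permL (genS.getD k [])

/-- the checks on a generator -/
def genB (k : ℕ) (f : List ℤ → List ℤ) : Bool :=
  ((List.finRange 35).all fun i => f (fixL.getD i.val []) ==
      fixL.getD (permL (n := 35) (genP.getD k []) i).val []) &&
    compatB (permL (genP.getD k [])) (genPerm k)

theorem gens_ok : genB 0 (applyL hRowsA) = true ∧ genB 1 (applyL hRowsB) = true ∧
    genB 2 (Co2Cent.permLW p4N) = true := by decide +kernel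

theorem thetaP_gen (g : Cent) (k : ℕ) (f : List ℤ → List ℤ)
    (hf : ∀ y : leechLattice, vecL ((coEl g.1 • y : leechLattice) : GolayPt → ℤ)
      = f (vecL (y : GolayPt → ℤ)))
    (h : genB k f = true) : thetaP g = genPerm k := by
  rw [genB, Bool.and_eq_true] at h
  exact thetaP_eq g f hf _ _ h.1 h.2

/-- the derived permutations -/
def derived : List (Equiv.Perm (Fin 8)) :=
  stepL.foldl (fun D s => D ++ [D.getD s.1 1 * genPerm s.2]) [1]

theorem steps_small : stepL.all (fun s => decide (s.2 < 3)) = true := by decide +kernel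

theorem genPerm_mem {k : ℕ} (hk : k < 3) : genPerm k ∈ thetaP.range := by
  obtain ⟨a, ha⟩ := exists_cent hMatA inCent_mats.1
  obtain ⟨b, hb⟩ := exists_cent hMatB inCent_mats.2
  interval_cases k
  · exact ⟨a, thetaP_gen a 0 _ (fun y => by rw [ha]; exact hMatA.vecL_elt y) gens_ok.1⟩
  · exact ⟨b, thetaP_gen b 1 _ (fun y => by rw [hb]; exact hMatB.vecL_elt y) gens_ok.2.1⟩
  · exact ⟨gC, thetaP_gen gC 2 _ gC_list gens_ok.2.2⟩

theorem derived_mem : ∀ x ∈ derived, x ∈ thetaP.range := by
  have key : ∀ (L : List (ℕ × ℕ)) (D : List (Equiv.Perm (Fin 8))),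
      (∀ s ∈ L, s.2 < 3) → (∀ x ∈ D, x ∈ thetaP.range) →
      ∀ x ∈ L.foldl (fun D s => D ++ [D.getD s.1 1 * genPerm s.2]) D, x ∈ thetaP.range := by
    intro L
    induction L with
    | nil => intro D _ hD; exact hD
    | cons s L ih =>
      intro D hL hD
      rw [List.foldl_cons]
      refine ih _ (fun t ht => hL t (List.mem_cons_of_mem _ ht)) fun x hx => ?_
      rcases List.mem_append.mp hx with hx | hx
      · exact hD x hx
      · rw [List.mem_singleton.mp hx]
        refine Subgroup.mul_mem _ ?_ (genPerm_mem (hL s List.mem_cons_self))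
        by_cases hlt : s.1 < D.length
        · rw [List.getD_eq_getElem _ _ hlt]; exact hD _ (List.getElem_mem hlt)
        · rw [List.getD_eq_default _ _ (Nat.le_of_not_lt hlt)]; exact Subgroup.one_mem _
  exact key stepL [1] (fun s hs => by simpa using List.all_eq_true.mp steps_small s hs)
    (fun x hx => by rw [List.mem_singleton.mp hx]; exact Subgroup.one_mem _)

theorem pairs_derived : ∀ a b : Fin 8, a ≠ b →
    derived.contains (Equiv.swap a b * Equiv.swap 0 1) = true := by decide +kernel

theorem alt_le_range : alternatingGroup (Fin 8) ≤ thetaP.range := by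
  have hP : ∀ a b : Fin 8, a ≠ b → Equiv.swap a b * Equiv.swap 0 1 ∈ thetaP.range := fun a b h =>
    derived_mem _ (List.contains_iff_mem.mp (pairs_derived a b h))
  have key : ∀ σ : Equiv.Perm (Fin 8), (Equiv.Perm.sign σ = 1 → σ ∈ thetaP.range) ∧
      (Equiv.Perm.sign σ = -1 → σ * Equiv.swap 0 1 ∈ thetaP.range) := by
    intro σ
    refine Equiv.Perm.swap_induction_on' σ ⟨fun _ => Subgroup.one_mem _,
      fun h => absurd h (by rw [map_one]; decide)⟩ fun f x y hxy ih => ?_
    have hs : Equiv.Perm.sign (f * Equiv.swap x y) = -Equiv.Perm.sign f := by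
      rw [map_mul, Equiv.Perm.sign_swap hxy, mul_neg, mul_one]
    constructor
    · intro h
      have hf : Equiv.Perm.sign f = -1 := by rw [hs] at h; rw [← h, neg_neg]
      have := Subgroup.mul_mem _ (ih.2 hf) (Subgroup.inv_mem _ (hP x y hxy))
      simpa [mul_assoc] using this
    · intro h
      have hf : Equiv.Perm.sign f = 1 := by rw [hs] at h; exact neg_inj.mp h
      rw [mul_assoc]
      exact Subgroup.mul_mem _ (ih.1 hf) (hP x y hxy)
  exact fun σ hσ => (key σ).1 (Equiv.Perm.mem_alternatingGroup.mp hσ)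

theorem tInv_mem : tInv ∈ Cent := Subgroup.mem_centralizer_singleton_iff.mpr rfl

/-- the involution inside its centraliser -/
noncomputable abbrev tC : Cent := ⟨tInv, tInv_mem⟩

theorem tC_ne : tC ≠ 1 := fun h => by
  have h' : tInv = 1 := congrArg Subtype.val h
  have := orderOf_tInv
  rw [h', orderOf_one] at this
  omega

theorem tC_sq : tC * tC = 1 := Subtype.ext (by
  show tInv * tInv = 1
  rw [← pow_two, ← orderOf_tInv, pow_orderOf_eq_one])

theorem mem_ker_iff {g : Cent} : g ∈ thetaP.ker ↔ g = 1 ∨ g = tC := by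
  constructor
  · intro h
    rcases thetaP_kernel h with h | h
    · exact Or.inl (Subtype.ext h)
    · exact Or.inr (Subtype.ext h)
  · rintro (rfl | rfl)
    · exact Subgroup.one_mem _
    · exact thetaP_tInv _

theorem card_ker : Nat.card thetaP.ker = 2 := by
  have e : (thetaP.ker : Set Cent) = {1, tC} := Set.ext fun g => mem_ker_iff
  show Nat.card (thetaP.ker : Set Cent) = 2
  rw [e, Nat.card_coe_set_eq, Set.ncard_pair (Ne.symm tC_ne)]

theorem range_eq : thetaP.range = alternatingGroup (Fin 8) := by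
  haveI : Finite Co0 := co0_finite
  haveI : Finite Spor.McL := Finite.of_injective coEl coEl_injective
  have hA : Nat.card (alternatingGroup (Fin 8)) = 20160 := by
    rw [nat_card_alternatingGroup]; simp [Nat.factorial]
  have h8 : Nat.card (Equiv.Perm (Fin 8)) = 40320 := by
    rw [Nat.card_eq_fintype_card, Fintype.card_perm]; rfl
  have hc : 2 * Nat.card thetaP.range ∣ 898128000 := by
    have h1 : Nat.card Cent = Nat.card thetaP.range * 2 := by
      rw [Subgroup.card_eq_card_quotient_mul_card_subgroup thetaP.ker, card_ker,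
        Nat.card_congr (QuotientGroup.quotientKerEquivRange thetaP).toEquiv]
    rw [← card_mcl_model, ← Nat.card_congr mEquiv.toEquiv, mul_comm, ← h1]
    exact Subgroup.card_subgroup_dvd_card _
  have hd : Nat.card thetaP.range ∣ 40320 := h8 ▸ Subgroup.card_subgroup_dvd_card _
  have hm : 20160 ∣ Nat.card thetaP.range := hA ▸ Subgroup.card_dvd_of_le alt_le_range
  have hcard : Nat.card thetaP.range = 20160 := by
    obtain ⟨k, hk⟩ := hm
    rw [hk] at hd hc
    have hk2 : k ∣ 2 := Nat.dvd_of_mul_dvd_mul_left (by norm_num : 0 < 20160) hd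
    rcases (Nat.dvd_prime Nat.prime_two).mp hk2 with rfl | rfl
    · rw [hk]
    · norm_num at hc
  exact (Subgroup.eq_of_le_of_card_ge alt_le_range (by rw [hcard, hA])).symm

/-- onto the alternating group -/
noncomputable def thetaA : Cent →* alternatingGroup (Fin 8) :=
  thetaP.codRestrict _ fun g => range_eq ▸ ⟨g, rfl⟩

theorem thetaA_surjective : Function.Surjective thetaA := fun s => by
  have hs : s.1 ∈ thetaP.range := range_eq.symm ▸ s.2
  obtain ⟨g, hg⟩ := hs
  exact ⟨g, Subtype.ext hg⟩

theorem thetaA_ker : thetaA.ker = thetaP.ker := by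
  ext g
  rw [MonoidHom.mem_ker, MonoidHom.mem_ker]
  exact Subtype.ext_iff

theorem center_eq : Subgroup.center Cent = thetaP.ker := by
  refine le_antisymm (fun g hg => ?_) fun g hg => ?_
  · rw [← thetaA_ker, MonoidHom.mem_ker]
    have h : thetaA g ∈ Subgroup.center (alternatingGroup (Fin 8)) :=
      Subgroup.mem_center_iff.mpr fun s => by
        obtain ⟨k, rfl⟩ := thetaA_surjective s
        rw [← map_mul, ← map_mul, Subgroup.mem_center_iff.mp hg k]
    rwa [alternatingGroup.center_eq_bot (by simp), Subgroup.mem_bot] at h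
  · rcases mem_ker_iff.mp hg with rfl | rfl
    · exact Subgroup.one_mem _
    · exact Subgroup.mem_center_iff.mpr fun k =>
        Subtype.ext (Subgroup.mem_centralizer_singleton_iff.mp k.2)

theorem nonsplit : IsNonsplitDoubleCover Cent (alternatingGroup (Fin 8)) := by
  refine ⟨by rw [center_eq]; exact card_ker, ⟨(QuotientGroup.quotientMulEquivOfEq
    (center_eq.trans thetaA_ker.symm)).trans
    (QuotientGroup.quotientKerEquivOfSurjective thetaA thetaA_surjective)⟩, fun L hL => ?_⟩
  obtain ⟨⟨z, l⟩, e⟩ := hL.2 gC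
  have hz : (z : Cent) ∈ Subgroup.center Cent := z.2
  have hz2 : (z : Cent) * z = 1 := by
    rcases mem_ker_iff.mp ((SetLike.ext_iff.mp center_eq _).mp hz) with h | h <;> rw [h]
    · exact mul_one _
    · exact tC_sq
  have hl : (l : Cent) * l = tC := by
    have e' : (z : Cent) * l = gC := e
    have hcomm : (l : Cent) * z = z * l := (Subgroup.mem_center_iff.mp hz l)
    calc (l : Cent) * l = (z * z) * (l * l) := by rw [hz2, one_mul]
      _ = z * (z * l) * l := by simp only [mul_assoc]
      _ = z * (l * z) * l := by rw [hcomm]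
      _ = (z * l) * (z * l) := by simp only [mul_assoc]
      _ = tC := by rw [e']; exact Subtype.ext gC_sq
  have htL : tC ∈ L := hl ▸ L.mul_mem l.2 l.2
  have htC : tC ∈ Subgroup.center Cent := center_eq ▸ mem_ker_iff.mpr (Or.inr rfl)
  exact tC_ne (Subgroup.disjoint_def.mp hL.disjoint htC htL)

theorem involution_class (x : Spor.McL) (hx : orderOf x = 2) : IsConj tInv x := by
  haveI : Finite Co0 := co0_finite
  haveI : Finite Spor.McL := Finite.of_injective coEl coEl_injective
  haveI : Fact (Nat.Prime 2) := ⟨Nat.prime_two⟩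
  let S₀ : Subgroup Spor.McL := McLFusion.mSyl.map mEquiv.symm.toMonoidHom
  have hcard : Nat.card S₀ = 128 := by
    rw [← Nat.card_congr (McLFusion.mSyl.equivMapOfInjective _ mEquiv.symm.injective).toEquiv,
      McLFusion.card_mSyl]
  let S : Sylow 2 Spor.McL := Sylow.ofCard S₀ (by
    have h7 : (898128000 : ℕ).factorization 2 = 7 := by
      rw [show (898128000 : ℕ) = 2 ^ 7 * 7016625 by norm_num,
        Nat.factorization_mul (by norm_num) (by norm_num), Finsupp.add_apply,
        Nat.Prime.factorization_pow Nat.prime_two, Finsupp.single_eq_same,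
        Nat.factorization_eq_zero_of_not_dvd (by norm_num)]
    rw [hcard, Nat.card_congr mEquiv.toEquiv, card_mcl_model, h7]
    norm_num)
  obtain ⟨Q, hQ⟩ := (IsPGroup.of_card (n := 1) (G := Subgroup.zpowers x)
    (by rw [Nat.card_zpowers, hx, pow_one])).exists_le_sylow
  obtain ⟨c, hc⟩ := MulAction.exists_smul_eq Spor.McL Q S
  have hmem : c * x * c⁻¹ ∈ ((c • Q : Sylow 2 Spor.McL) : Subgroup Spor.McL) := by
    rw [Sylow.coe_subgroup_smul]
    exact ⟨x, hQ (Subgroup.mem_zpowers x), by simp⟩
  rw [hc] at hmem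
  obtain ⟨m, ⟨σ, hσ, rfl⟩, he⟩ := (hmem : c * x * c⁻¹ ∈ S₀)
  have he' : emb22 σ = c * x * c⁻¹ := he
  have hconj : IsConj x (emb22 σ) := isConj_iff.mpr ⟨c, he'.symm⟩
  have hσ2 : orderOf σ = 2 := by
    rw [← orderOf_injective emb22 emb22_injective, he']
    exact (orderOf_injective (MulAut.conj c).toMonoidHom (MulAut.conj c).injective x).trans hx
  obtain ⟨zz, hzz⟩ := H87.exists_of_mem22 (by
    have h := H25.M22.reps_mem
    simp only [Bool.and_eq_true] at h
    exact h.1.1.1 : H87.mem22 H25.M22.zN = true)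
  have h1 : σ * σ = 1 := by rw [← pow_two, ← hσ2, pow_orderOf_eq_one]
  have h2 : σ ≠ 1 := fun e => by rw [e, orderOf_one] at hσ2; omega
  exact (emb22.map_isConj ((H25.M22.isConj_inv hzz pi22_sq pi22_ne).symm.trans
    (H25.M22.isConj_inv hzz h1 h2))).trans hconj.symm

theorem mcl_involutions : (∀ x y : ↥Spor.McL, orderOf x = 2 → orderOf y = 2 → IsConj x y) ∧
    ∃ t : ↥Spor.McL, orderOf t = 2 ∧ IsNonsplitDoubleCover
      ↥(Subgroup.centralizer ({t} : Set ↥Spor.McL)) ↥(alternatingGroup (Fin 8)) :=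
  ⟨fun x y hx hy => (involution_class x hx).symm.trans (involution_class y hy),
    tInv, orderOf_tInv, nonsplit⟩

end H95.McLInv
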